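import Cfsg.Agent.Lib.FusionMetacyclic.Group
import Cfsg.Agent.Lib.PGroup.UniqueOrderP
import Cfsg.Agent.Lib.FusionChain.StronglyClosed
import Cfsg.Agent.Lib.Fusion.Criterion
import Cfsg.Agent.S0638
import Cfsg.Agent.S5236

/-
Strongly closed metacyclic subgroups, p odd.

Main results (namespace `Cfsg.Agent.FusionMetacyclic`):
* `commutator_le_of_cyclic_quotient`, `omega_mem_iff`, `omega_comm`;
* `stronglyClosed_omega`;
* `isNormal_of_metacyclic` : a strongly closed metacyclic subgroup is normal.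
-/

set_option autoImplicit false
open scoped commutatorElement Pointwise

namespace Cfsg.Agent.FusionMetacyclic

open Cfsg Cfsg.FusionSystem Cfsg.Agent.Fusion Cfsg.Agent.FusionChain

theorem commutator_le_of_cyclic_quotient {G : Type*} [Group G] {N : Subgroup G} [N.Normal]
    (h : IsCyclic (G ⧸ N)) : _root_.commutator G ≤ N := by
  rw [commutator_def, Subgroup.commutator_le]
  intro a _ b _
  rw [← QuotientGroup.eq_one_iff]
  show (QuotientGroup.mk' N) ⁅a, b⁆ = 1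
  rw [map_commutatorElement, commutatorElement_eq_one_iff_mul_comm]
  exact (IsCyclic.isMulCommutative (α := G ⧸ N)).is_comm.comm _ _

/-- In an odd metacyclic p-group `Ω₁` is the set of elements with `x ^ p = 1`; it is abelian, and of order `p²`
unless the group is cyclic. -/
theorem omega_facts {G : Type*} [Group G] [Finite G] {p : ℕ} [Fact p.Prime] (hp : p ≠ 2) (hG : IsPGroup p G)
    (hm : Cfsg.IsMetacyclic G) :
    (∀ x : G, x ∈ Cfsg.omegaOne p (⊤ : Subgroup G) ↔ x ^ p = 1) ∧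
      (∀ a ∈ Cfsg.omegaOne p (⊤ : Subgroup G), ∀ b ∈ Cfsg.omegaOne p (⊤ : Subgroup G), Commute a b) ∧
      (¬ IsCyclic G → Nat.card (Cfsg.omegaOne p (⊤ : Subgroup G)) = p ^ 2) := by
  have hmem : ∀ x : G, x ^ p = 1 → x ∈ Cfsg.omegaOne p (⊤ : Subgroup G) := fun x hx =>
    Subgroup.subset_closure ⟨Subgroup.mem_top x, hx⟩
  by_cases hc : IsCyclic G
  · have hcomm : ∀ a b : G, Commute a b := fun a b => (IsCyclic.isMulCommutative (α := G)).is_comm.comm a b
    refine ⟨fun x => ⟨fun hx => ?_, hmem x⟩, fun a _ b _ => hcomm a b, fun h => absurd hc h⟩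
    induction hx using Subgroup.closure_induction with
    | mem y hy => exact hy.2
    | one => exact one_pow p
    | mul a b _ _ ha hb => rw [(hcomm a b).mul_pow, ha, hb, one_mul]
    | inv a _ ha => rw [inv_pow, ha, inv_one]
  · obtain ⟨⟨hcm, hexp⟩, hcard⟩ := Cfsg.Agent.S0638.result hp hG hm hc
    exact ⟨fun x => ⟨hexp x, hmem x⟩,
      fun a ha b hb => congrArg Subtype.val (hcm.is_comm.comm ⟨a, ha⟩ ⟨b, hb⟩), fun _ => hcard⟩

variable {Ω : Type*} [Group Ω] {S : Subgroup Ω} [Finite S] {p : ℕ} [hp : Fact p.Prime]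

/-- A strongly closed metacyclic subgroup is normal, `p` odd. -/
theorem isNormal_of_metacyclic (hS : IsPGroup p S) {F : FusionSystem S} (hF : F.IsSaturated p) (hp2 : p ≠ 2)
    {P : Subgroup Ω} (hP : F.StronglyClosed P) (hm : Cfsg.IsMetacyclic P) : F.IsNormal P := by
  have hPS := hP.1
  have := finite_of_le hPS
  have hG : IsPGroup p P := hS.to_le hPS
  obtain ⟨hΩ, hΩc, hΩcard⟩ := omega_facts hp2 hG hm
  set V := Cfsg.omegaOne p (⊤ : Subgroup P) with hVdef
  set O := Cfsg.omegaOne p P with hOdef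
  have hOV : O = V.map P.subtype := by
    rw [hOdef, hVdef, Cfsg.omegaOne, Cfsg.omegaOne, MonoidHom.map_closure]
    congr 1
    ext x
    constructor
    · rintro ⟨hx, hxp⟩
      exact ⟨⟨x, hx⟩, ⟨Subgroup.mem_top _, Subtype.ext hxp⟩, rfl⟩
    · rintro ⟨y, ⟨-, hy⟩, rfl⟩
      exact ⟨y.2, congrArg Subtype.val hy⟩
  have hOle : O ≤ P := hOV ▸ Subgroup.map_subtype_le V
  have hOmem : ∀ x : Ω, x ∈ O ↔ x ∈ P ∧ x ^ p = 1 := fun x => by
    refine ⟨fun hx => ⟨hOle hx, ?_⟩, fun hx => Subgroup.subset_closure hx⟩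
    rw [hOV] at hx
    obtain ⟨v, hv, rfl⟩ := hx
    exact congrArg Subtype.val ((hΩ v).1 hv)
  -- `Ω₁(P)` is strongly closed
  have hmap : ∀ Q f, IsMap F Q f → ∀ x ∈ Q, x ∈ O → f x ∈ O := by
    intro Q f hf x hxQ hx
    refine (hOmem _).2 ⟨isMap_mem_of_stronglyClosed hP hf hxQ (hOle hx), ?_⟩
    obtain ⟨φ, -, e⟩ := hf
    rw [← e x hxQ, ← map_pow, show (⟨x, hxQ⟩ : Q) ^ p = 1 from Subtype.ext ((hOmem x).1 hx).2, map_one]
  have hOsc : F.StronglyClosed O :=
    stronglyClosed_of_mapsTo (hOle.trans hPS) fun Q f hf hQ x hx => hmap Q f hf x hx (hQ hx)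
  refine (Cfsg.Agent.S5236.result p hS F hF hp2 P hP).2 ?_
  have hbot : F.StronglyClosed ⊥ := ⟨bot_le, fun R hR φ _ x => by
    have h1 : x = 1 := Subtype.ext (Subgroup.mem_bot.1 (hR x.2))
    rw [h1, map_one]; exact one_mem _⟩
  by_cases hcen : ∀ v ∈ V, v ∈ Subgroup.center P
  · refine ⟨1, ![⊥, O], rfl, rfl, ?_, fun i => ?_, fun i => ?_⟩
    · intro i j hij
      fin_cases i <;> fin_cases j <;> simp_all
    · fin_cases i <;> simp [hbot, hOsc]
    · fin_cases i
      show ⁅O, P⁆ ≤ ⊥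
      rw [Subgroup.commutator_le]
      intro a ha b hb
      rw [hOV] at ha
      obtain ⟨v, hv, rfl⟩ := ha
      rw [Subgroup.mem_bot, commutatorElement_eq_one_iff_mul_comm]
      exact congrArg Subtype.val (Subgroup.mem_center_iff.1 (hcen v hv) ⟨b, hb⟩).symm
  push_neg at hcen
  obtain ⟨y, hyV, hyc⟩ := hcen
  obtain ⟨g, hgy⟩ : ∃ g : P, ¬ Commute g y := by
    by_contra h
    push_neg at h
    exact hyc (Subgroup.mem_center_iff.2 h)
  have hnc : ¬ IsCyclic P := fun h => hgy ((IsCyclic.isMulCommutative (α := P)).is_comm.comm g y)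
  have hcard2 := hΩcard hnc
  have hVn : V.Normal := ⟨fun v hv u => (hΩ _).2 (by rw [conj_pow, (hΩ v).1 hv, mul_one, mul_inv_cancel])⟩
  -- the central line
  set Zg := V ⊓ Subgroup.center P with hZg
  have hZgn : Zg.Normal := by rw [hZg]; infer_instance
  have hZne : Zg ≠ ⊥ := PGroup.inf_center_ne_bot hG fun h => by
    rw [h, Subgroup.card_bot] at hcard2
    exact absurd hcard2.symm (Nat.ne_of_gt (Nat.one_lt_pow two_ne_zero hp.out.one_lt))
  have hZlt : Zg < V := lt_of_le_of_ne inf_le_left fun h => hyc (h.symm.le hyV).2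
  have hZcard : Nat.card Zg = p := by
    obtain ⟨k, hk⟩ := PGroup.exists_subgroup_card_eq_pow hG Zg
    have h1 := PGroup.mul_card_le_of_lt hG hZlt
    rw [hcard2, hk, pow_two] at h1
    have hk0 : k ≠ 0 := fun h => hZne (Subgroup.eq_bot_of_card_eq _ (by rw [hk, h, pow_zero]))
    have : p ^ k ≤ p ^ 1 := by rw [pow_one]; exact Nat.le_of_mul_le_mul_left h1 hp.out.pos
    have := (Nat.pow_le_pow_iff_right hp.out.one_lt).1 this
    rw [hk, show k = 1 by omega, pow_one]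
  have hcomm : ∀ v ∈ V, ∀ u : P, ⁅u, v⁆ ∈ Zg := by
    intro v hv u
    have h1 : ⁅V, (⊤ : Subgroup P)⁆ < V := PGroup.commutator_lt_of_ne_bot hG fun h => by
      rw [h, Subgroup.mem_bot] at hyV
      exact hgy (hyV ▸ Commute.one_right g)
    set D := ⁅V, (⊤ : Subgroup P)⁆ with hD
    have hDn : D.Normal := by rw [hD]; infer_instance
    have hDc : D ≤ Subgroup.center P := by
      rcases eq_or_ne D ⊥ with h | h
      · rw [h]; exact bot_le
      · refine PGroup.le_center_of_card_eq hG ?_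
        obtain ⟨k, hk⟩ := PGroup.exists_subgroup_card_eq_pow hG D
        have h2 := PGroup.mul_card_le_of_lt hG h1
        rw [hcard2, hk, pow_two] at h2
        have hk0 : k ≠ 0 := fun h' => h (Subgroup.eq_bot_of_card_eq _ (by rw [hk, h', pow_zero]))
        have : p ^ k ≤ p ^ 1 := by rw [pow_one]; exact Nat.le_of_mul_le_mul_left h2 hp.out.pos
        have := (Nat.pow_le_pow_iff_right hp.out.one_lt).1 this
        rw [hk, show k = 1 by omega, pow_one]
    rw [← commutatorElement_inv]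
    have h3 : ⁅v, u⁆ ∈ D := Subgroup.commutator_mem_commutator hv (Subgroup.mem_top u)
    exact inv_mem ⟨h1.le h3, hDc h3⟩
  set c := ⁅g, y⁆ with hcdef
  have hcZ : c ∈ Zg := hcomm y hyV g
  have hc1 : c ≠ 1 := fun h => hgy (commutatorElement_eq_one_iff_commute.1 h)
  have hcord : orderOf c = p := orderOf_eq_prime ((hΩ c).1 hcZ.1) hc1
  have hZc : Zg = Subgroup.zpowers c :=
    (Subgroup.eq_of_le_of_card_ge (Subgroup.zpowers_le.2 hcZ) (by rw [Nat.card_zpowers, hcord, hZcard])).symm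
  have hgen : ∀ v ∈ V, ∃ k : ℤ, (y ^ k)⁻¹ * v ∈ Zg := by
    have hle : Zg ⊔ Subgroup.zpowers y ≤ V := sup_le inf_le_left (Subgroup.zpowers_le.2 hyV)
    have hlt : Zg < Zg ⊔ Subgroup.zpowers y :=
      left_lt_sup.2 fun h => hyc (h (Subgroup.mem_zpowers y)).2
    have h2 := PGroup.mul_card_le_of_lt hG hlt
    rw [hZcard, ← pow_two, ← hcard2] at h2
    intro v hv
    rw [← Subgroup.eq_of_le_of_card_ge hle h2] at hv
    obtain ⟨z, hz, w, hw, rfl⟩ := Subgroup.mem_sup_of_normal_left.1 hv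
    obtain ⟨k, rfl⟩ := Subgroup.mem_zpowers_iff.1 hw
    refine ⟨k, ?_⟩
    rw [← Subgroup.mem_center_iff.1 hz.2 (y ^ k), inv_mul_cancel_left]
    exact hz
  have hgyc : g * y * g⁻¹ = c * y := by rw [hcdef, commutatorElement_def, inv_mul_cancel_right]
  set Z1 := Zg.map P.subtype with hZ1
  have hZ1O : Z1 ≤ O := hOV ▸ Subgroup.map_mono inf_le_left
  have hOS : O ≤ S := hOle.trans hPS
  have := finite_of_le hOS
  have := finite_mulAut (S := S) hOS
  have hOc : ∀ a ∈ O, ∀ b ∈ O, a * b = b * a := by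
    intro a ha b hb
    rw [hOV] at ha hb
    obtain ⟨a, ha, rfl⟩ := ha
    obtain ⟨b, hb, rfl⟩ := hb
    exact congrArg Subtype.val (hΩc a ha b hb).eq
  have hZ1card : Nat.card Z1 = p := by rw [hZ1, Subgroup.card_map_of_injective P.subtype_injective, hZcard]
  -- `Z1` is central in `S`
  have hPconj : ∀ s ∈ S, ∀ x ∈ P, s * x * s⁻¹ ∈ P := fun s hs x hx => conj_mem_of_stronglyClosed hP hs hx
  have hZS : ∀ s ∈ S, ∀ x ∈ Z1, s * x * s⁻¹ = x := by
    have hn : (Z1.subgroupOf S).Normal := by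
      refine ⟨fun z hz s => ?_⟩
      obtain ⟨w, hw, hwe⟩ := (show (z : Ω) ∈ Z1 from hz)
      refine (?_ : (s : Ω) * z * (s : Ω)⁻¹ ∈ Z1)
      rw [← hwe]
      refine ⟨⟨_, hPconj s s.2 w w.2⟩, ⟨(hΩ _).2 (Subtype.ext ?_), Subgroup.mem_center_iff.2 fun u => Subtype.ext ?_⟩, rfl⟩
      · show ((s : Ω) * w * (s : Ω)⁻¹) ^ p = 1
        rw [conj_pow, show ((w : P) : Ω) ^ p = 1 from congrArg Subtype.val ((hΩ w).1 hw.1), mul_one, mul_inv_cancel]
      · have h1 := congrArg Subtype.val (Subgroup.mem_center_iff.1 hw.2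
          ⟨_, hPconj (s : Ω)⁻¹ (inv_mem s.2) u u.2⟩)
        show (u : Ω) * ((s : Ω) * w * (s : Ω)⁻¹) = (s : Ω) * w * (s : Ω)⁻¹ * u
        have h2 : ((s : Ω)⁻¹ * u * (s : Ω)⁻¹⁻¹) * w = w * ((s : Ω)⁻¹ * u * (s : Ω)⁻¹⁻¹) := h1
        calc (u : Ω) * ((s : Ω) * w * (s : Ω)⁻¹) = s * (((s : Ω)⁻¹ * u * (s : Ω)⁻¹⁻¹) * w) * (s : Ω)⁻¹ := by group
          _ = s * (w * ((s : Ω)⁻¹ * u * (s : Ω)⁻¹⁻¹)) * (s : Ω)⁻¹ := by rw [h2]
          _ = _ := by group
    have hle := PGroup.le_center_of_card_eq hS (N := Z1.subgroupOf S) (by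
      rw [Nat.card_congr (Subgroup.subgroupOfEquivOfLe (hZ1O.trans hOS)).toEquiv, hZ1card])
    intro s hs x hx
    have h1 := congrArg Subtype.val
      (Subgroup.mem_center_iff.1 (hle (show (⟨x, hOS (hZ1O hx)⟩ : S) ∈ Z1.subgroupOf S from hx)) ⟨s, hs⟩)
    exact mul_inv_eq_iff_eq_mul.2 h1
  set A := F.autGroup O
  have hOn : normalizerIn S O = S :=
    le_antisymm inf_le_left fun s hs => mem_normalizerIn_of_conj hs fun x hx => conj_mem_of_stronglyClosed hOsc hs hx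
  have hfn : F.IsFullyNormalized O := ⟨hOS, fun Q _ => by rw [hOn]; exact Subgroup.card_le_of_le inf_le_left⟩
  -- if no automorphism moves `Z1`, it is strongly closed
  by_cases hmove : ∀ α ∈ A, ∀ x : O, (x : Ω) ∈ Z1 → ((α x : O) : Ω) ∈ Z1
  · have hZsc : F.StronglyClosed Z1 := by
      refine stronglyClosed_of_mapsTo (hZ1O.trans hOS) fun Q f hf hQ x hx => ?_
      rcases eq_or_ne x 1 with rfl | hx1
      · rw [hf.map_one]; exact one_mem _
      have hQeq : Q = Z1 := by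
        have := finite_of_le (S := S) (P := Z1) (hZ1O.trans hOS)
        refine Subgroup.eq_of_le_of_card_ge (hQ : Q ≤ Z1) ?_
        have h1 : Nat.card Q ∣ p := hZ1card ▸ Subgroup.card_dvd_of_le hQ
        rcases (Nat.dvd_prime hp.out).1 h1 with h | h
        · exact absurd (Subgroup.mem_bot.1 (Subgroup.eq_bot_of_card_eq _ h ▸ hx)) hx1
        · rw [h, hZ1card]
      subst hQeq
      by_contra hfx
      set R := img f Z1
      have hfi : IsIso F Z1 R f := hf.isIso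
      obtain ⟨j, hj, hjf, -⟩ := hfi.symm
      have hfc : F.IsFullyCentralized Z1 := ⟨hZ1O.trans hOS, fun X _ => by
        have : centralizerIn S Z1 = S :=
          le_antisymm inf_le_left fun s hs => mem_centralizerIn_of_conj hs (hZS s hs)
        rw [this]
        exact Subgroup.card_le_of_le inf_le_left⟩
      obtain ⟨k, hk, hkj⟩ := (isReceptive_iff.1 (receptive_of_fullyCentralized hS hF hfc)).2 R j hj
      have hRO : R ≤ O := hf.img_le le_rfl fun z hz => hmap _ f hf z hz (hZ1O hz)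
      have hle : O ≤ Nx S R j := fun o ho => centralizerIn_le_Nx S R j
        (mem_centralizerIn.2 ⟨hOS ho, fun r hr => hOc o ho r (hRO hr)⟩)
      have hk' := hk.mono hle
      obtain ⟨α, hα, hαe⟩ := exists_aut_of_isIso (⟨hk', eq_of_le_of_card hOS
        (hk'.img_le le_rfl fun o ho => hmap _ k hk' o ho ho) (hk'.card_img le_rfl).ge⟩ : IsIso F O O k)
      have hfxR : f x ∈ R := hf.mem_img hx
      have h5 : α ⟨f x, hRO hfxR⟩ = ⟨x, hZ1O hx⟩ := Subtype.ext (by rw [hαe]; show k (f x) = x; rw [hkj _ hfxR, hjf x hx])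
      have h6 := hmove α⁻¹ (inv_mem hα) ⟨x, hZ1O hx⟩ hx
      rw [← h5, MulAut.inv_apply_self] at h6
      exact hfx h6
    refine ⟨2, ![⊥, Z1, O], rfl, rfl, ?_, fun i => ?_, fun i => ?_⟩
    · intro i j hij
      fin_cases i <;> fin_cases j <;> simp_all
    · fin_cases i <;> simp [hbot, hOsc, hZsc]
    · fin_cases i
      · show ⁅Z1, P⁆ ≤ ⊥
        rw [Subgroup.commutator_le]
        intro a ha b hb
        rw [Subgroup.mem_bot, commutatorElement_eq_one_iff_mul_comm]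
        exact (mul_inv_eq_iff_eq_mul.1 (hZS b (hPS hb) a ha)).symm
      · show ⁅O, P⁆ ≤ Z1
        rw [Subgroup.commutator_le]
        intro a ha b hb
        rw [hOV] at ha
        obtain ⟨v, hv, rfl⟩ := ha
        refine ⟨⁅v, ⟨b, hb⟩⁆, ?_, rfl⟩
        rw [← commutatorElement_inv]
        exact inv_mem (hcomm v hv _)
  exfalso
  push_neg at hmove
  obtain ⟨α₀, hα₀, x₀, hx₀, hx₀n⟩ := hmove
  -- the plane
  letI : CommGroup O := { (inferInstance : Group O) with mul_comm := fun a b => Subtype.ext (hOc a a.2 b b.2) }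
  let ι : ∀ v : P, v ∈ V → O := fun v hv => ⟨v, hOV ▸ Subgroup.mem_map_of_mem _ hv⟩
  have hexp : ∀ v : O, v ^ p = 1 := fun v => Subtype.ext ((hOmem v).1 v.2).2
  set Zo := Z1.subgroupOf O with hZo
  set yo := ι y hyV
  set co := ι c hcZ.1
  have hyo : yo ∉ Zo := fun h => hyc (by
    obtain ⟨w, hw, hwe⟩ := (show (y : Ω) ∈ Z1 from h)
    rw [← P.subtype_injective hwe]
    exact hw.2)
  have hgeno : ∀ v : O, ∃ k : ℤ, (yo ^ k)⁻¹ * v ∈ Zo := by
    rintro ⟨v, hv⟩
    obtain ⟨w, hw, rfl⟩ := (hOV ▸ hv : v ∈ V.map P.subtype)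
    obtain ⟨k, hk⟩ := hgen w hw
    refine ⟨k, ?_⟩
    show ((y : Ω) ^ k)⁻¹ * w ∈ Z1
    exact ⟨_, hk, by simp⟩
  have hco : co ∈ Zo := (⟨c, hcZ, rfl⟩ : (c : Ω) ∈ Z1)
  have hco1 : co ≠ 1 := fun h => hc1 (Subtype.ext (show (c : Ω) = 1 from congrArg Subtype.val h))
  have hZoc : Zo = Subgroup.zpowers co := by
    refine (Subgroup.eq_of_le_of_card_ge (Subgroup.zpowers_le.2 hco) ?_).symm
    rw [Nat.card_zpowers, orderOf_eq_prime (hexp co) hco1,
      Nat.card_congr (Subgroup.subgroupOfEquivOfLe hZ1O).toEquiv, hZ1card]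
  set u := normConj S O ⟨g, by rw [hOn]; exact hPS g.2⟩ with hu
  have huA : u ∈ A := autInducedBy_le_autGroup F le_rfl hOS (range_normConj S O ▸ ⟨_, rfl⟩)
  have hufix : ∀ z ∈ Zo, u z = z := fun z hz => Subtype.ext (hZS g (hPS g.2) z hz)
  have huy : u yo = co * yo := Subtype.ext (congrArg (fun t : P => (t : Ω)) hgyc :)
  have hmove' : ∃ α ∈ A, ∃ z ∈ Zo, α z ∉ Zo := ⟨α₀, hα₀, x₀, hx₀, hx₀n⟩
  have htop : ∀ L : Subgroup O, L ≠ ⊥ → (∀ α ∈ A, ∀ x ∈ L, α x ∈ L) → yo ∈ L := fun L h1 h2 => by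
    rw [eq_top_of_invariant hexp hgeno huA hufix hco hco1 huy hZoc hmove' h1 h2]
    exact Subgroup.mem_top _
  -- `M = C_P(Ω₁)` and the extension of every automorphism to it
  set M := P ⊓ Subgroup.centralizer (O : Set Ω) with hM
  have hMC : M ≤ centralizerIn S O := inf_le_inf_right _ hPS
  have hMy : ∀ a : P, Commute a y → (a : Ω) ∈ M := by
    intro a ha
    refine ⟨a.2, ?_⟩
    intro o ho
    rw [hOV] at ho
    obtain ⟨v, hv, rfl⟩ := ho
    obtain ⟨k, hk⟩ := hgen v hv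
    have h1 : Commute a ((y ^ k) * ((y ^ k)⁻¹ * v)) := (ha.zpow_right k).mul_right (Subgroup.mem_center_iff.1 hk.2 a)
    rw [mul_inv_cancel_left] at h1
    exact congrArg Subtype.val h1.eq.symm
  have hMy' : ∀ a : P, (a : Ω) ∈ M → Commute a y := fun a ha =>
    Subtype.ext (ha.2 _ (hOV ▸ Subgroup.mem_map_of_mem _ hyV)).symm
  have hOM : O ≤ M := fun o ho => ⟨hOle ho, fun o' ho' => hOc o' ho' o ho⟩
  have hext : ∀ α ∈ A, ∃ f, IsMap F M f ∧ (∀ m ∈ M, f m ∈ M) ∧ ∀ x : O, ((α x : O) : Ω) = f x := by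
    intro α hα
    obtain ⟨f, hf, hfα⟩ := (isReceptive_iff.1 (receptive_of_fullyNormalized hS hF hfn)).2 O _ (isIso_autFn hOS hα)
    have hle : M ≤ Nx S O (autFn α) := hMC.trans (centralizerIn_le_Nx S O _)
    refine ⟨f, hf.mono hle, fun m hm => ⟨isMap_mem_of_stronglyClosed hP (hf.mono hle) hm hm.1, ?_⟩, fun x => ?_⟩
    · exact (map_centralizerIn hf (le_Nx (isIso_autFn hOS hα).1)
        ((img_congr hfα).trans (isIso_autFn hOS hα).2) (hle hm) (hMC hm)).2
    · rw [hfα x x.2, autFn_apply α x.2]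
  obtain ⟨N, hNn, hNc, hNq⟩ := hm
  have hGN := commutator_le_of_cyclic_quotient hNq
  -- `M` is abelian
  have hMab : ∀ a b : P, Commute a y → Commute b y → Commute a b := by
    intro a b ha hb
    by_contra hab
    set D := ⁅M, M⁆
    have hDN : D ≤ N.map P.subtype := by
      rw [Subgroup.commutator_le]
      intro a ha b hb
      exact ⟨⁅(⟨a, ha.1⟩ : P), ⟨b, hb.1⟩⁆, hGN (Subgroup.commutator_mem_commutator (Subgroup.mem_top _)
        (Subgroup.mem_top _)), rfl⟩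
    set L := D.subgroupOf O
    have hLne : L ≠ ⊥ := by
      set d : P := ⁅a, b⁆
      have hd : (d : Ω) ∈ D := Subgroup.commutator_mem_commutator (hMy a ha) (hMy b hb)
      obtain ⟨k, hk⟩ := IsPGroup.iff_orderOf.1 hG d
      rcases k with _ | k
      · rw [pow_zero, orderOf_eq_one_iff] at hk
        exact absurd (commutatorElement_eq_one_iff_commute.1 hk) hab
      have h1 : (d ^ p ^ k) ^ p = 1 := by rw [← pow_mul, ← pow_succ, ← hk, pow_orderOf_eq_one]
      have h2 : d ^ p ^ k ≠ 1 := fun h => by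
        have := Nat.le_of_dvd (pow_pos hp.out.pos k) (hk ▸ orderOf_dvd_of_pow_eq_one h)
        exact absurd this (Nat.not_le.2 (Nat.pow_lt_pow_right hp.out.one_lt (Nat.lt_succ_self k)))
      intro h
      have h3 : ι _ ((hΩ _).2 h1) ∈ L := by
        show (((d ^ p ^ k : P)) : Ω) ∈ D
        rw [SubgroupClass.coe_pow]
        exact pow_mem hd _
      rw [h, Subgroup.mem_bot] at h3
      exact h2 (Subtype.ext (show ((d ^ p ^ k : P) : Ω) = 1 from congrArg Subtype.val h3))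
    have hyD := htop L hLne fun α hα x hx => by
      obtain ⟨f, ⟨φ, hφ, e⟩, hfM, hfα⟩ := hext α hα
      show ((α x : O) : Ω) ∈ D
      rw [hfα]
      have hle : (D.subgroupOf M).map φ ≤ D := by
        have hDM : D.subgroupOf M = ⁅(⊤ : Subgroup M), (⊤ : Subgroup M)⁆ := by
          apply Subgroup.map_injective M.subtype_injective
          rw [Subgroup.map_subgroupOf_eq_of_le, Subgroup.map_commutator, ← MonoidHom.range_eq_map,
            Subgroup.range_subtype]
          rw [Subgroup.commutator_le]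
          exact fun a ha b hb => mul_mem (mul_mem (mul_mem ha hb) (inv_mem ha)) (inv_mem hb)
        rw [hDM, Subgroup.map_commutator]
        refine Subgroup.commutator_mono ?_ ?_ <;>
        · rintro _ ⟨m, -, rfl⟩
          rw [e m m.2]
          exact hfM m m.2
      exact e (x : Ω) (hOM x.2) ▸ hle ⟨⟨x, hOM x.2⟩, hx, rfl⟩
    obtain ⟨w, hw, hwe⟩ := hDN hyD
    have hwy : w = y := P.subtype_injective hwe
    have hyd : y ∈ N := hwy ▸ hw
    have hcd : c ∈ N := hGN (Subgroup.commutator_mem_commutator (Subgroup.mem_top g) (Subgroup.mem_top y))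
    obtain ⟨k, hk⟩ := Subgroup.mem_zpowers_iff.1
      (PGroup.mem_zpowers_of_isCyclic hNc hcd hyd hcord ((hΩ y).1 hyV))
    exact hyc (hk ▸ Subgroup.zpow_mem _ hcZ.2 k)
  have hgp : Commute (g ^ p) y := by
    have h1 : ∀ n : ℕ, g ^ n * y * (g ^ n)⁻¹ = c ^ n * y := by
      intro n
      induction n with
      | zero => simp
      | succ n ih =>
        calc g ^ (n + 1) * y * (g ^ (n + 1))⁻¹ = g * (g ^ n * y * (g ^ n)⁻¹) * g⁻¹ := by rw [pow_succ']; group
          _ = (g * c ^ n * g⁻¹) * (g * y * g⁻¹) := by rw [ih]; group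
          _ = c ^ (n + 1) * y := by
            rw [hgyc, Subgroup.mem_center_iff.1 (Subgroup.pow_mem _ hcZ.2 n) g, mul_inv_cancel_right, ← mul_assoc,
              pow_succ]
    have h2 := h1 p
    rw [(hΩ c).1 hcZ.1, one_mul] at h2
    exact mul_inv_eq_iff_eq_mul.1 h2
  have hMn : ∀ a : P, Commute a y → Commute (g * a * g⁻¹) y := by
    intro a ha
    refine hMy' _ ⟨(g * a * g⁻¹).2, fun o ho => ?_⟩
    have hgo := conj_mem_of_stronglyClosed hOsc (inv_mem (hPS g.2)) ho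
    rw [inv_inv] at hgo
    have h1 := (hMy a ha).2 _ hgo
    show o * ((g : Ω) * a * (g : Ω)⁻¹) = (g : Ω) * a * (g : Ω)⁻¹ * o
    calc o * ((g : Ω) * a * (g : Ω)⁻¹) = g * (((g : Ω)⁻¹ * o * g) * a) * (g : Ω)⁻¹ := by group
      _ = g * (a * ((g : Ω)⁻¹ * o * g)) * (g : Ω)⁻¹ := by rw [h1]
      _ = _ := by group
  -- `M = Ω₁(P)`
  have hMO : ∀ a : P, Commute a y → a ∈ V := by
    intro a ha
    by_contra hav
    let W : Subgroup O :=
      { carrier := {v | ∃ w : P, Commute w y ∧ ((w ^ p : P) : Ω) = v}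
        one_mem' := ⟨1, Commute.one_left y, by simp⟩
        mul_mem' := by
          rintro v v' ⟨w, hw, e⟩ ⟨w', hw', e'⟩
          refine ⟨w * w', hw.mul_left hw', ?_⟩
          rw [(hMab _ _ hw hw').mul_pow, Subgroup.coe_mul, e, e', Subgroup.coe_mul]
        inv_mem' := by
          rintro v ⟨w, hw, e⟩
          refine ⟨w⁻¹, hw.inv_left, ?_⟩
          rw [inv_pow, Subgroup.coe_inv, e, Subgroup.coe_inv] }
    have hW : W ≠ ⊥ := by
      obtain ⟨k, hk⟩ := IsPGroup.iff_orderOf.1 hG a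
      rcases k with _ | _ | k
      · rw [pow_zero, orderOf_eq_one_iff] at hk
        exact absurd (hk ▸ one_mem V) hav
      · exact absurd ((hΩ a).2 (by rw [zero_add, pow_one] at hk; rw [← hk, pow_orderOf_eq_one])) hav
      have h1 : ((a ^ p ^ k) ^ p) ^ p = 1 := by
        rw [← pow_mul, ← pow_mul, show p ^ k * (p * p) = p ^ (k + 1 + 1) by ring, ← hk, pow_orderOf_eq_one]
      have h2 : (a ^ p ^ k) ^ p ≠ 1 := fun h => by
        rw [← pow_mul, ← pow_succ] at h
        have := Nat.le_of_dvd (pow_pos hp.out.pos _) (hk ▸ orderOf_dvd_of_pow_eq_one h)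
        exact absurd this (Nat.not_le.2 (Nat.pow_lt_pow_right hp.out.one_lt (Nat.lt_succ_self _)))
      intro h
      have h3 : ι _ ((hΩ _).2 h1) ∈ W := ⟨a ^ p ^ k, ha.pow_left _, rfl⟩
      rw [h, Subgroup.mem_bot] at h3
      exact h2 (Subtype.ext (show ((((a ^ p ^ k) ^ p : P)) : Ω) = 1 from congrArg Subtype.val h3))
    obtain ⟨w, hw, hwe⟩ := htop W hW fun α hα v hv => by
      obtain ⟨w, hw, e⟩ := hv
      obtain ⟨f, ⟨φ, hφ, eφ⟩, hfM, hfα⟩ := hext α hα
      refine ⟨⟨f w, (hfM w (hMy w hw)).1⟩, hMy' _ (hfM w (hMy w hw)), ?_⟩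
      rw [hfα, ← eφ _ (hOM v.2), SubgroupClass.coe_pow]
      show f w ^ p = _
      rw [← eφ w (hMy w hw), ← map_pow]
      exact congrArg φ (Subtype.ext (by rw [SubgroupClass.coe_pow]; exact (SubgroupClass.coe_pow w p).symm.trans e))
    haveI := hNn
    exact not_pow_of_noncentral hG hp2 hNc hGN hgy hgp hMab hMn hw (P.subtype_injective hwe)
  have hgV : g ∉ V := fun h => hgy (hΩc g h y hyV)
  have hgenP : ∀ s : P, ∃ i : ℤ, ∃ v ∈ V, s = g ^ i * v := by
    intro s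
    have hs := hcomm y hyV s
    rw [hZc] at hs
    obtain ⟨i, hi⟩ := Subgroup.mem_zpowers_iff.1 hs
    have h1 : s * y * s⁻¹ = c ^ i * y := by rw [hi, commutatorElement_def, inv_mul_cancel_right]
    have h2 : y * g * y⁻¹ = c⁻¹ * g := by
      rw [eq_inv_mul_iff_mul_eq, ← mul_assoc, ← mul_assoc, ← hgyc]; group
    have h3 : y * g ^ i * y⁻¹ = c⁻¹ ^ i * g ^ i := by
      rw [← conj_zpow, h2]
      exact (show Commute c⁻¹ g from (Subgroup.mem_center_iff.1 (inv_mem hcZ.2) g).symm).mul_zpow i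
    refine ⟨i, (g ^ i)⁻¹ * s, hMO _ ?_, (mul_inv_cancel_left _ _).symm⟩
    have h4 : s * y = c ^ i * y * s := by rw [← h1, inv_mul_cancel_right]
    have h5 : y * g ^ i = (c ^ i)⁻¹ * g ^ i * y := by
      rw [← inv_zpow, ← h3, inv_mul_cancel_right]
    have h6 : g ^ i * y = c ^ i * (y * g ^ i) := by
      rw [h5, ← mul_assoc, ← mul_assoc, mul_inv_cancel, one_mul]
    show (g ^ i)⁻¹ * s * y = y * ((g ^ i)⁻¹ * s)
    apply mul_left_cancel (a := g ^ i)
    rw [mul_assoc, mul_inv_cancel_left, ← mul_assoc (g ^ i) y, h6, h4]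
    group
  refine false_of_moved hp2 hexp hgeno hyo huA hufix hco hco1 huy hZoc (fun α hα hαZ => ?_) hmove'
  -- automorphisms fixing `Z1` extend to `S`
  let K : Subgroup (MulAut O) :=
    { carrier := {a | a ∈ A ∧ (∀ z ∈ Zo, a z = z) ∧ ∀ v, v⁻¹ * a v ∈ Zo}
      one_mem' := ⟨one_mem _, fun z _ => rfl, fun v => by simp⟩
      mul_mem' := by
        rintro a b ⟨ha, ha1, ha2⟩ ⟨hb, hb1, hb2⟩
        refine ⟨mul_mem ha hb, fun z hz => by rw [MulAut.mul_apply, hb1 z hz, ha1 z hz], fun v => ?_⟩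
        rw [MulAut.mul_apply, show v⁻¹ * a (b v) = (v⁻¹ * b v) * ((b v)⁻¹ * a (b v)) by group]
        exact mul_mem (hb2 v) (ha2 _)
      inv_mem' := by
        rintro a ⟨ha, ha1, ha2⟩
        refine ⟨inv_mem ha, fun z hz => ?_, fun v => ?_⟩
        · conv_lhs => rw [← ha1 z hz, MulAut.inv_apply_self]
        · have := inv_mem (ha2 (a⁻¹ v))
          rwa [MulAut.apply_inv_self, mul_inv_rev, inv_inv] at this }
  have hsyl := (isFullyAutomized_iff.1 (fullyAutomized_of_fullyNormalized hS hF hfn)).2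
  have hUK : autInducedBy S O ≤ K := by
    intro a ha
    refine ⟨hsyl.le ha, ?_, ?_⟩
    · obtain ⟨s, hs, e⟩ := mem_autInducedBy_iff.1 ha
      exact fun z hz => Subtype.ext ((e z).trans (hZS s hs z hz))
    · obtain ⟨m, hm⟩ := hsyl.isPGroup ⟨a, ha⟩
      have ham : a ^ p ^ m = 1 := congrArg Subtype.val hm
      obtain ⟨s, hs, e⟩ := mem_autInducedBy_iff.1 ha
      have hfixZ : ∀ z ∈ Zo, a z = z := fun z hz => Subtype.ext ((e z).trans (hZS s hs z hz))
      obtain ⟨μ, hμ⟩ := hgeno (a yo)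
      have hpow : ∀ n : ℕ, ((yo ^ (μ ^ n : ℤ))⁻¹ * (a ^ n) yo) ∈ Zo := by
        intro n
        induction n with
        | zero => simp
        | succ n ih =>
          have h2 : a ((yo ^ (μ ^ n : ℤ))⁻¹ * (a ^ n) yo) = (yo ^ (μ ^ n : ℤ))⁻¹ * (a ^ n) yo := hfixZ _ ih
          have h3 : (a ^ (n + 1)) yo = (a yo) ^ (μ ^ n : ℤ) * ((yo ^ (μ ^ n : ℤ))⁻¹ * (a ^ n) yo) := by
            rw [← h2, map_mul, map_inv, map_zpow, mul_inv_cancel_left, pow_succ', MulAut.mul_apply]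
          rw [h3, pow_succ', zpow_mul, ← mul_assoc, ← inv_zpow, ← mul_zpow]
          exact mul_mem (zpow_mem hμ _) ih
      have h4 := hpow (p ^ m)
      rw [ham, MulAut.one_apply] at h4
      have h5 : (p : ℤ) ∣ 1 - μ ^ p ^ m := by
        by_contra hd
        obtain ⟨a', b, hab⟩ := (Nat.prime_iff_prime_int.1 hp.out).coprime_iff_not_dvd.2 hd
        refine hyo ?_
        have h6 : yo ^ (1 - μ ^ p ^ m : ℤ) ∈ Zo := by
          rw [zpow_sub, zpow_one, mul_comm]; exact h4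
        have : yo = (yo ^ (1 - μ ^ p ^ m : ℤ)) ^ b := by
          conv_lhs => rw [← zpow_one yo, ← hab, zpow_add, mul_comm a', zpow_mul, zpow_natCast, hexp yo, one_zpow,
            one_mul, mul_comm b, zpow_mul]
        rw [this]
        exact zpow_mem h6 b
      have h7 : (p : ℤ) ∣ 1 - μ := by
        rw [← ZMod.intCast_zmod_eq_zero_iff_dvd] at h5 ⊢
        push_cast at h5 ⊢
        rwa [ZMod.pow_card_pow] at h5
      intro v
      obtain ⟨k, hk⟩ := hgeno v
      obtain ⟨j, hj⟩ := h7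
      have h8 : yo⁻¹ * a yo ∈ Zo := by
        rw [show μ = 1 - (p : ℤ) * j by linear_combination -hj, zpow_sub, zpow_one, zpow_mul, zpow_natCast,
          hexp yo, one_zpow, inv_one, mul_one] at hμ
        exact hμ
      have h9 : v⁻¹ * a v = (yo⁻¹ * a yo) ^ k := by
        obtain ⟨w, rfl⟩ : ∃ w, v = yo ^ k * w := ⟨_, (mul_inv_cancel_left _ _).symm⟩
        rw [inv_mul_cancel_left] at hk
        rw [map_mul, map_zpow, hfixZ _ hk, mul_inv, mul_zpow, inv_zpow, mul_mul_mul_comm, inv_mul_cancel, mul_one]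
      rw [h9]
      exact zpow_mem h8 k
  have hKp : IsPGroup p K := by
    refine isPGroup_of_stabilizes_chain (hS.to_le hOS) K 2
      (fun i => if i = 0 then ⊥ else if i = 1 then Zo else ⊤) rfl rfl ?_
    rintro a ⟨-, ha1, ha2⟩ i hi v hv
    rcases i with - | - | i
    · simp only [Nat.zero_add, if_neg Nat.one_ne_zero, if_true] at hv ⊢
      rw [ha1 v hv, inv_mul_cancel]
      exact one_mem _
    · simp only [Nat.zero_add, if_neg Nat.one_ne_zero, if_true]
      exact ha2 v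
    · omega
  have hKU : K = autInducedBy S O := hsyl.2.2 K hUK (fun a ha => ha.1) hKp
  have hα' : ∀ z ∈ Zo, α⁻¹ z ∈ Zo := by
    intro z hz
    have h1 : Zo.map α.toMonoidHom = Zo := Subgroup.eq_of_le_of_card_ge
      (by rintro _ ⟨x, hx, rfl⟩; exact hαZ x hx) (Subgroup.card_map_of_injective α.injective).ge
    obtain ⟨x, hx, rfl⟩ := h1.ge hz
    show α⁻¹ (α x) ∈ Zo
    rwa [MulAut.inv_apply_self]
  obtain ⟨f, hf, hfα⟩ := exists_extension (M := S) (receptive_of_fullyNormalized hS hF hfn) hα hOn.ge fun s hs => by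
    obtain ⟨hk, hk1, hk2⟩ := (hKU.symm ▸ range_normConj S O ▸ ⟨_, rfl⟩ : normConj S O ⟨s, hOn.ge hs⟩ ∈ K)
    rw [← hKU]
    refine ⟨mul_mem (mul_mem hα hk) (inv_mem hα), fun z hz => ?_, fun v => ?_⟩
    · rw [MulAut.mul_apply, MulAut.mul_apply, hk1 _ (hα' z hz), MulAut.apply_inv_self]
    · have h1 := hαZ _ (hk2 (α⁻¹ v))
      rw [map_mul, map_inv, MulAut.apply_inv_self] at h1
      exact h1
  have hfP : IsMap F P f := hf.mono (hPS.trans le_sup_right)
  obtain ⟨β, -, hβ⟩ := exists_aut_of_isIso (⟨hfP, eq_of_le_of_card hPS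
    (hfP.img_le le_rfl fun x hx => isMap_mem_of_stronglyClosed hP hfP hx hx) (hfP.card_img le_rfl).ge⟩ :
    IsIso F P P f)
  have hfix := inv_mul_mem_of_small hp2 hΩ hΩc hyV hgV (hMO _ hgp) hcZ.2 hc1 hgyc hgenP
    (fun v hv => (hgen v hv).imp fun m hm => hm.2) (fun a haV hac ha1 => by
      have h1 : Subgroup.zpowers a = Zg := Subgroup.eq_of_le_of_card_ge (Subgroup.zpowers_le.2 ⟨haV, hac⟩)
        (by rw [hZcard, Nat.card_zpowers, orderOf_eq_prime ((hΩ a).1 haV) ha1])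
      rw [h1]
      exact hcZ) β
  have hβV : β y ∈ V := (hΩ _).2 (by rw [← map_pow, (hΩ y).1 hyV, map_one])
  have hyα : yo⁻¹ * α yo ∈ Zo := by
    show ((y : Ω))⁻¹ * ((α yo : O) : Ω) ∈ Z1
    refine ⟨_, ⟨mul_mem (V.inv_mem hyV) hβV, hfix⟩, ?_⟩
    show (y : Ω)⁻¹ * ((β y : P) : Ω) = _
    rw [hβ, hfα (y : Ω) (yo.2), autFn_apply α yo.2]
  intro v
  obtain ⟨k, hk⟩ := hgeno v
  have h9 : v⁻¹ * α v = ((yo ^ k)⁻¹ * v)⁻¹ * α ((yo ^ k)⁻¹ * v) * (yo⁻¹ * α yo) ^ k := by
    rw [map_mul, map_inv, map_zpow, mul_zpow, inv_zpow, mul_inv, inv_inv]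
    generalize yo ^ k = a
    generalize α yo ^ k = a'
    calc v⁻¹ * α v = v⁻¹ * (a * a⁻¹) * (α v * (a'⁻¹ * a')) := by rw [mul_inv_cancel, inv_mul_cancel, mul_one, mul_one]
      _ = a * v⁻¹ * (a'⁻¹ * α v) * (a⁻¹ * a') := by ac_rfl
  rw [h9]
  exact mul_mem (mul_mem (inv_mem hk) (hαZ _ hk)) (zpow_mem hyα k)

end Cfsg.Agent.FusionMetacyclic
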