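import Cfsg.Agent.Lib.PGroup.Omega
import Cfsg.Agent.Lib.PGroup.Basic
import Cfsg.Agent.Lib.Metacyclic.Geom

/-
Metacyclic p-groups, p odd, with a noncentral element of order p: the facts used for strongly closed subgroups.

Main results (namespace `Cfsg.Agent.FusionMetacyclic`):
* `not_pow_of_noncentral` : a noncentral `y` of order p is no p-th power inside an abelian `C(y)`;
* `inv_mul_mem_of_small` : in the group of order `p³` every automorphism fixes `Ω₁` modulo the centre;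
* `eq_top_of_invariant`, `false_of_moved` : a group of automorphisms of `C_p × C_p` moving a line `Z` whose stabiliser
  acts trivially modulo `Z` cannot contain a transvection on `Z`.
-/

set_option autoImplicit false
open scoped commutatorElement Pointwise

namespace Cfsg.Agent.FusionMetacyclic

open Cfsg.Agent.Metacyclic (geom geom_succ geom_zero)

variable {G : Type*} [Group G] [Finite G] {p : ℕ} [hp : Fact p.Prime]

theorem not_pow_of_noncentral (hG : IsPGroup p G) (hp2 : p ≠ 2) {N : Subgroup G} [N.Normal] (hN : IsCyclic N)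
    (hGN : _root_.commutator G ≤ N) {y g : G} (hgy : ¬ Commute g y)
    (hgp : Commute (g ^ p) y) (hM : ∀ a b : G, Commute a y → Commute b y → Commute a b)
    (hMn : ∀ a : G, Commute a y → Commute (g * a * g⁻¹) y) {w : G} (hw : Commute w y) : w ^ p ≠ y := by
  intro hwy
  set x := ⁅g, w⁆ with hx
  have hxN : x ∈ N := hGN (Subgroup.commutator_mem_commutator (Subgroup.mem_top g) (Subgroup.mem_top w))
  have hxy : Commute x y := by
    rw [hx, commutatorElement_def]
    exact (hMn w hw).mul_left hw.inv_left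
  -- `g` acts on `N` as a power map
  obtain ⟨e, he⟩ : ∃ e : ℕ, ∀ n ∈ N, g * n * g⁻¹ = n ^ e := by
    let f : N →* N := (MulAut.conjNormal g : MulAut N).toMonoidHom
    obtain ⟨m, hm⟩ := MonoidHom.map_cyclic f
    refine ⟨(m % (Nat.card N : ℤ)).toNat, fun n hn => ?_⟩
    have h0 : 0 ≤ m % (Nat.card N : ℤ) := Int.emod_nonneg _ (by exact_mod_cast Nat.card_pos.ne')
    have h1 := congrArg Subtype.val (hm ⟨n, hn⟩)
    rw [← zpow_natCast, Int.toNat_of_nonneg h0]
    refine h1.trans ?_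
    rw [← zpow_mod_natCard (⟨n, hn⟩ : N) m]
    rfl
  have hgw : g * w * g⁻¹ = x * w := by rw [hx, commutatorElement_def, inv_mul_cancel_right]
  have hiter : ∀ i : ℕ, g ^ i * w * (g ^ i)⁻¹ = x ^ geom e i * w := by
    intro i
    induction i with
    | zero => simp [geom_zero]
    | succ i ih =>
      calc g ^ (i + 1) * w * (g ^ (i + 1))⁻¹ = g * (g ^ i * w * (g ^ i)⁻¹) * g⁻¹ := by rw [pow_succ']; group
        _ = (g * x * g⁻¹) ^ geom e i * (g * w * g⁻¹) := by rw [ih, conj_pow]; group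
        _ = x ^ geom e (i + 1) * w := by
          rw [he x hxN, hgw, ← pow_mul, ← mul_assoc, ← pow_succ, geom_succ, add_comm]
  have hgx : Commute (g ^ p) x := hM _ _ hgp hxy
  have hgw' : Commute (g ^ p) w := hM _ _ hgp hw
  have hS : x ^ geom e p = 1 := by
    have h1 := hiter p
    rw [hgw'.eq, mul_inv_cancel_right] at h1
    exact mul_eq_right.1 h1.symm
  have hxp : x ^ p = 1 := by
    rcases eq_or_ne x 1 with h1 | h1
    · rw [h1, one_pow]
    obtain ⟨k, hk⟩ := IsPGroup.iff_orderOf.1 hG x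
    have hk0 : k ≠ 0 := fun h => h1 (orderOf_eq_one_iff.1 (by rw [hk, h, pow_zero]))
    have hpe : ∀ i : ℕ, g ^ i * x * (g ^ i)⁻¹ = x ^ e ^ i := by
      intro i
      induction i with
      | zero => simp
      | succ i ih =>
        calc g ^ (i + 1) * x * (g ^ (i + 1))⁻¹ = g * (g ^ i * x * (g ^ i)⁻¹) * g⁻¹ := by rw [pow_succ']; group
          _ = x ^ e ^ (i + 1) := by rw [ih, ← conj_pow, he x hxN, ← pow_mul, pow_succ']
    have h2 := hpe p
    rw [hgx.eq, mul_inv_cancel_right] at h2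
    nth_rewrite 1 [← pow_one x] at h2
    rw [pow_eq_pow_iff_modEq, hk] at h2
    have h3 : (e : ZMod p) = 1 := by
      have h4 := (ZMod.natCast_eq_natCast_iff _ _ _).2 (h2.of_dvd (dvd_pow_self p hk0))
      rw [Nat.cast_one, Nat.cast_pow, ZMod.pow_card] at h4
      exact h4.symm
    obtain ⟨u, hu, hu1⟩ := Cfsg.Agent.Metacyclic.geom_prime hp2 h3
    have h5 : orderOf x ∣ p * u := hu ▸ orderOf_dvd_of_pow_eq_one hS
    rw [hk] at h5
    have hup : Nat.Coprime (p ^ k) u := by
      refine Nat.Coprime.pow_left k (hp.out.coprime_iff_not_dvd.2 fun hd => ?_)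
      rw [(ZMod.natCast_eq_zero_iff u p).2 hd] at hu1
      exact zero_ne_one hu1
    exact orderOf_dvd_iff_pow_eq_one.1 (hk ▸ hup.dvd_of_dvd_mul_right h5)
  -- hence `g` fixes `y = w ^ p`
  refine hgy ?_
  have h6 : (g * w * g⁻¹) ^ p = w ^ p := by rw [hgw, (hM _ _ hxy hw).mul_pow, hxp, one_mul]
  rw [conj_pow, hwy] at h6
  exact mul_inv_eq_iff_eq_mul.1 h6

omit [Finite G] in
theorem inv_mul_mem_of_small (hp2 : p ≠ 2) {V : Subgroup G} (hV : ∀ x : G, x ∈ V ↔ x ^ p = 1)
    (hVc : ∀ a ∈ V, ∀ b ∈ V, Commute a b) {y g c : G} (hy : y ∈ V) (hg : g ∉ V) (hgp : g ^ p ∈ V)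
    (hc : c ∈ Subgroup.center G) (hc1 : c ≠ 1) (hgyc : g * y * g⁻¹ = c * y)
    (hgen : ∀ u : G, ∃ i : ℤ, ∃ v ∈ V, u = g ^ i * v)
    (hZ : ∀ v ∈ V, ∃ m : ℤ, (y ^ m)⁻¹ * v ∈ Subgroup.center G)
    (hline : ∀ a ∈ V, a ∈ Subgroup.center G → a ≠ 1 → c ∈ Subgroup.zpowers a)
    (β : MulAut G) : y⁻¹ * β y ∈ Subgroup.center G := by
  have hgV : ∀ v ∈ V, ∃ z ∈ Subgroup.center G, g * v = z * (v * g) := by
    intro v hv
    obtain ⟨m, hm⟩ := hZ v hv
    refine ⟨c ^ m, zpow_mem hc m, ?_⟩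
    have h1 : g * y ^ m = c ^ m * (y ^ m * g) := by
      have h3 : (g * y * g⁻¹) ^ m = c ^ m * y ^ m := by
        rw [hgyc]; exact (show Commute c y from (Subgroup.mem_center_iff.1 hc y).symm).mul_zpow m
      rw [conj_zpow] at h3
      rw [← mul_assoc, ← h3, inv_mul_cancel_right]
    obtain ⟨z, hz⟩ : ∃ z, z = (y ^ m)⁻¹ * v := ⟨_, rfl⟩
    have hzc : z ∈ Subgroup.center G := hz ▸ hm
    have hv' : v = y ^ m * z := by rw [hz, mul_inv_cancel_left]
    rw [hv', ← mul_assoc g, h1, mul_assoc (y ^ m) z g, ← Subgroup.mem_center_iff.1 hzc g]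
    simp only [mul_assoc]
  have hq : ∀ u u' : G, (u : G ⧸ Subgroup.center G) * u' = (u' : G ⧸ Subgroup.center G) * u := by
    intro u u'
    obtain ⟨i, v, hv, rfl⟩ := hgen u
    obtain ⟨k, v', hv', rfl⟩ := hgen u'
    have hcm : ∀ v ∈ V, Commute (g : G ⧸ Subgroup.center G) (v : G ⧸ Subgroup.center G) := by
      intro v hv
      obtain ⟨z, hz, he⟩ := hgV v hv
      show (g : G ⧸ Subgroup.center G) * v = v * g
      rw [← QuotientGroup.mk_mul, he, QuotientGroup.mk_mul, (QuotientGroup.eq_one_iff z).2 hz, one_mul,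
        QuotientGroup.mk_mul]
    have c1 := ((hcm v hv).zpow_left k).symm
    have c2 := (hcm v' hv').zpow_left i
    have c3 : Commute (v : G ⧸ Subgroup.center G) (v' : G ⧸ Subgroup.center G) :=
      (hVc v hv v' hv').map (QuotientGroup.mk' (Subgroup.center G))
    simp only [QuotientGroup.mk_mul, QuotientGroup.mk_zpow]
    exact (((Commute.zpow_zpow_self (g : G ⧸ Subgroup.center G) i k).mul_left c1).mul_right (c2.mul_left c3)).eq
  have hclass : ∀ a b : G, ⁅a, b⁆ ∈ Subgroup.center G := fun a b => by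
    rw [← QuotientGroup.eq_one_iff]
    show (QuotientGroup.mk' _) ⁅a, b⁆ = 1
    rw [map_commutatorElement, commutatorElement_eq_one_iff_mul_comm]
    exact hq a b
  have hgpc : g ^ p ∈ Subgroup.center G := by
    refine Subgroup.mem_center_iff.2 fun u => ?_
    obtain ⟨i, v, hv, rfl⟩ := hgen u
    have h1 : Commute (g ^ i) (g ^ p) := ((Commute.refl g).pow_right p).zpow_left i
    exact (h1.mul_left (hVc v hv _ hgp)).eq
  have hgp1 : g ^ p ≠ 1 := fun h => hg ((hV g).2 h)
  obtain ⟨m, hm⟩ := Subgroup.mem_zpowers_iff.1 (hline _ hgp hgpc hgp1)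
  obtain ⟨i, v, hv, hβg⟩ := hgen (β g)
  have hβV : ∀ x ∈ V, β x ∈ V := fun x hx => (hV _).2 (by rw [← map_pow, (hV x).1 hx, map_one])
  have hi : ¬ (p : ℤ) ∣ i := by
    rintro ⟨j, rfl⟩
    have hin : β g ∈ V := by
      rw [hβg, zpow_mul, zpow_natCast]
      exact mul_mem (zpow_mem hgp j) hv
    exact hg ((hV g).2 (β.injective (by rw [map_pow, (hV _).1 hin, map_one])))
  have hβgp : β (g ^ p) = (g ^ p) ^ i := by
    rw [map_pow, hβg, Cfsg.Agent.PGroup.mul_pow_classTwo hp.out hp2 hclass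
      (by rw [(hV v).1 hv]; exact one_mem _), (hV v).1 hv, mul_one, ← zpow_natCast (g ^ i), ← zpow_mul, mul_comm,
      zpow_mul, zpow_natCast]
  have hβc : β c = c ^ i := by rw [← hm, map_zpow, hβgp, ← zpow_mul, mul_comm, zpow_mul]
  obtain ⟨μ, hμ⟩ := hZ _ (hβV y hy)
  obtain ⟨z, hz⟩ : ∃ z, z = (y ^ μ)⁻¹ * β y := ⟨_, rfl⟩
  have hzc : z ∈ Subgroup.center G := hz ▸ hμ
  have hβy : β y = y ^ μ * z := by rw [hz, mul_inv_cancel_left]
  have h1 : g * y ^ μ * g⁻¹ = c ^ μ * y ^ μ := by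
    rw [← conj_zpow, hgyc]; exact (show Commute c y from (Subgroup.mem_center_iff.1 hc y).symm).mul_zpow μ
  have h2 : g ^ i * y ^ μ * (g ^ i)⁻¹ = c ^ (i * μ) * y ^ μ := by
    have h3 : y ^ μ * g * (y ^ μ)⁻¹ = c ^ (-μ) * g := by
      rw [zpow_neg, eq_inv_mul_iff_mul_eq, ← mul_assoc, ← mul_assoc, ← h1]
      group
    have h4 := congrArg (fun u => u ^ i) h3
    rw [conj_zpow, (show Commute (c ^ (-μ)) g from (Subgroup.mem_center_iff.1 (zpow_mem hc _) g).symm).mul_zpow,
      ← zpow_mul] at h4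
    have h5 : y ^ μ * g ^ i = c ^ (-μ * i) * g ^ i * y ^ μ := by rw [← h4, inv_mul_cancel_right]
    rw [show i * μ = -(-μ * i) by ring, zpow_neg, eq_inv_mul_iff_mul_eq, ← mul_assoc, ← mul_assoc, ← h5,
      mul_inv_cancel_right]
  have h6 : β c = c ^ (i * μ) := by
    have h7 := congrArg β hgyc
    rw [map_mul, map_mul, map_mul, map_inv, hβg, hβy] at h7
    have hvy : Commute v (y ^ μ * z) := (hVc v hv _ (zpow_mem hy μ)).mul_right (Subgroup.mem_center_iff.1 hzc v)
    have h8 : g ^ i * v * (y ^ μ * z) * (g ^ i * v)⁻¹ = c ^ (i * μ) * (y ^ μ * z) := by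
      rw [mul_inv_rev, mul_assoc (g ^ i) v, hvy.eq, mul_assoc, mul_assoc (y ^ μ * z), mul_inv_cancel_left,
        mul_assoc (y ^ μ) z, ← Subgroup.mem_center_iff.1 hzc (g ^ i)⁻¹, ← mul_assoc (y ^ μ), ← mul_assoc (g ^ i),
        ← mul_assoc (g ^ i), h2, mul_assoc]
    rw [h8] at h7
    exact (mul_right_cancel h7).symm
  rw [hβc, ← mul_one i, mul_assoc, one_mul, zpow_eq_zpow_iff_modEq, Int.modEq_iff_dvd] at h6
  have hcV : c ∈ V := by
    have : c = g * y * g⁻¹ * y⁻¹ := by rw [hgyc, mul_inv_cancel_right]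
    rw [this]
    exact mul_mem ((hV _).2 (by rw [conj_pow, (hV y).1 hy, mul_one, mul_inv_cancel])) (inv_mem hy)
  have hcord : orderOf c = p := orderOf_eq_prime ((hV c).1 hcV) hc1
  rw [hcord, show i * μ - i * 1 = i * (μ - 1) by ring] at h6
  rcases (Nat.prime_iff_prime_int.1 hp.out).dvd_mul.1 h6 with h | h
  · exact absurd h hi
  · obtain ⟨j, hj⟩ := h
    rw [hβy, show μ = 1 + (p : ℤ) * j by linear_combination hj, zpow_add, zpow_one, zpow_mul, zpow_natCast,
      (hV y).1 hy, one_zpow, mul_one, inv_mul_cancel_left]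
    exact hzc

section plane

variable {V : Type*} [CommGroup V] [Finite V] {A : Subgroup (MulAut V)} {Z : Subgroup V} {u : MulAut V} {y c : V}

theorem eq_top_of_invariant (hexp : ∀ v : V, v ^ p = 1) (hgen : ∀ v : V, ∃ k : ℤ, (y ^ k)⁻¹ * v ∈ Z)
    (hu : u ∈ A) (hufix : ∀ z ∈ Z, u z = z) (hc : c ∈ Z) (hc1 : c ≠ 1) (huy : u y = c * y)
    (hZ : Z = Subgroup.zpowers c) (hmove : ∃ α ∈ A, ∃ z ∈ Z, α z ∉ Z) {L : Subgroup V} (hL : L ≠ ⊥)
    (hinv : ∀ α ∈ A, ∀ x ∈ L, α x ∈ L) : L = ⊤ := by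
  have hcord : orderOf c = p := orderOf_eq_prime (hexp c) hc1
  -- `L` contains `Z`
  have hcL : c ∈ L := by
    obtain ⟨l, hl, hl1⟩ := L.bot_or_exists_ne_one.resolve_left hL
    obtain ⟨k, hk⟩ := hgen l
    have h1 : u l = c ^ k * l := by
      conv_lhs => rw [← mul_inv_cancel_left (y ^ k) l]
      rw [map_mul, map_zpow, huy, mul_zpow, hufix _ hk, mul_assoc, mul_inv_cancel_left]
    rcases eq_or_ne (c ^ k) 1 with h | h
    · have hlZ : l ∈ Z := by
        have hk' : (p : ℤ) ∣ k := hcord ▸ orderOf_dvd_iff_zpow_eq_one.2 h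
        obtain ⟨j, rfl⟩ := hk'
        rw [zpow_mul, zpow_natCast, hexp y, one_zpow, inv_one, one_mul] at hk
        exact hk
      rw [hZ] at hlZ
      obtain ⟨j, rfl⟩ := Subgroup.mem_zpowers_iff.1 hlZ
      have hj : ¬ (p : ℤ) ∣ j := fun hd => hl1 (orderOf_dvd_iff_zpow_eq_one.1 (hcord.symm ▸ hd))
      obtain ⟨a, b, hab⟩ := (Nat.prime_iff_prime_int.1 hp.out).coprime_iff_not_dvd.2 hj
      have : c = (c ^ j) ^ b := by
        conv_lhs => rw [← zpow_one c, ← hab, zpow_add, mul_comm a, zpow_mul, zpow_natCast, hexp c, one_zpow,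
          one_mul, mul_comm b, zpow_mul]
      rw [this]
      exact zpow_mem hl b
    · have hckL : c ^ k ∈ L := by
        have := mul_mem (hinv u hu l hl) (inv_mem hl)
        rwa [h1, mul_inv_cancel_right] at this
      have hk : ¬ (p : ℤ) ∣ k := fun hd => h (orderOf_dvd_iff_zpow_eq_one.1 (hcord.symm ▸ hd))
      obtain ⟨a, b, hab⟩ := (Nat.prime_iff_prime_int.1 hp.out).coprime_iff_not_dvd.2 hk
      have : c = (c ^ k) ^ b := by
        conv_lhs => rw [← zpow_one c, ← hab, zpow_add, mul_comm a, zpow_mul, zpow_natCast, hexp c, one_zpow,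
          one_mul, mul_comm b, zpow_mul]
      rw [this]
      exact zpow_mem hckL b
  have hZL : Z ≤ L := hZ ▸ Subgroup.zpowers_le.2 hcL
  -- and more
  obtain ⟨α, hα, z, hz, hzα⟩ := hmove
  have hl : α z ∈ L := hinv α hα z (hZL hz)
  obtain ⟨k, hk⟩ := hgen (α z)
  have hpk : ¬ (p : ℤ) ∣ k := by
    rintro ⟨j, rfl⟩
    rw [zpow_mul, zpow_natCast, hexp y, one_zpow, inv_one, one_mul] at hk
    exact hzα hk
  have hykL : y ^ k ∈ L := by
    have := mul_mem hl (inv_mem (hZL hk))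
    rwa [mul_inv, inv_inv, mul_comm (y ^ k), ← mul_assoc, mul_inv_cancel, one_mul] at this
  obtain ⟨a, b, hab⟩ := (Nat.prime_iff_prime_int.1 hp.out).coprime_iff_not_dvd.2 hpk
  have hyL : y ∈ L := by
    have : y = (y ^ k) ^ b := by
      conv_lhs => rw [← zpow_one y, ← hab, zpow_add, mul_comm a, zpow_mul, zpow_natCast, hexp y, one_zpow, one_mul,
        mul_comm b, zpow_mul]
    rw [this]
    exact zpow_mem hykL b
  rw [eq_top_iff]
  intro v _
  obtain ⟨k, hk⟩ := hgen v
  have := mul_mem (zpow_mem hyL k) (hZL hk)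
  rwa [mul_inv_cancel_left] at this

theorem false_of_moved (hp2 : p ≠ 2) (hexp : ∀ v : V, v ^ p = 1) (hgen : ∀ v : V, ∃ k : ℤ, (y ^ k)⁻¹ * v ∈ Z)
    (hy : y ∉ Z) (hu : u ∈ A) (hufix : ∀ z ∈ Z, u z = z) (hc : c ∈ Z) (hc1 : c ≠ 1) (huy : u y = c * y)
    (hZ : Z = Subgroup.zpowers c) (hstab : ∀ α ∈ A, (∀ z ∈ Z, α z ∈ Z) → ∀ v, v⁻¹ * α v ∈ Z)
    (hmove : ∃ α ∈ A, ∃ z ∈ Z, α z ∉ Z) : False := by
  classical
  have hcord : orderOf c = p := orderOf_eq_prime (hexp c) hc1
  have hyord : ∀ k : ℤ, y ^ k ∈ Z → (p : ℤ) ∣ k := by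
    intro k hk
    by_contra hd
    obtain ⟨a, b, hab⟩ := (Nat.prime_iff_prime_int.1 hp.out).coprime_iff_not_dvd.2 hd
    refine hy ?_
    have : y = (y ^ k) ^ b := by
      conv_lhs => rw [← zpow_one y, ← hab, zpow_add, mul_comm a, zpow_mul, zpow_natCast, hexp y, one_zpow, one_mul,
        mul_comm b, zpow_mul]
    rw [this]
    exact zpow_mem hk b
  let O := MulAction.orbit A Z
  let L : ZMod p → Subgroup V := fun t => Subgroup.zpowers (c ^ t.val * y)
  have hsmul : ∀ (a : A) (W : Subgroup V), a • W = W.map (a : MulAut V).toMonoidHom := fun a W => rfl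
  -- another line in the orbit
  obtain ⟨α, hα, z, hz, hzα⟩ := hmove
  obtain ⟨t₀, ht₀⟩ : ∃ t, L t ∈ O := by
    obtain ⟨k, hk⟩ := hgen (α z)
    have hpk : ¬ (p : ℤ) ∣ k := by
      rintro ⟨j, rfl⟩
      rw [zpow_mul, zpow_natCast, hexp y, one_zpow, inv_one, one_mul] at hk
      exact hzα hk
    obtain ⟨a, b, hab⟩ := (Nat.prime_iff_prime_int.1 hp.out).coprime_iff_not_dvd.2 hpk
    rw [hZ] at hk
    obtain ⟨j, hj⟩ := Subgroup.mem_zpowers_iff.1 hk
    refine ⟨((j * b : ℤ) : ZMod p), ⟨⟨α, hα⟩, ?_⟩⟩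
    show (⟨α, hα⟩ : A) • Z = _
    rw [hsmul, hZ, MonoidHom.map_zpowers]
    have hval : c ^ ((j * b : ℤ) : ZMod p).val = c ^ (j * b) := by
      rw [← zpow_natCast, zpow_eq_zpow_iff_modEq, hcord, ← ZMod.intCast_eq_intCast_iff]
      rw [Int.cast_natCast, ZMod.natCast_zmod_val]
    have hl : c ^ (j * b) * y = (α z) ^ b := by
      have e1 : α z = c ^ j * y ^ k := by rw [hj, mul_comm, mul_inv_cancel_left]
      rw [e1, mul_zpow, ← zpow_mul, ← zpow_mul]
      congr 1
      conv_lhs => rw [← zpow_one y, ← hab, zpow_add, mul_comm a, zpow_mul, zpow_natCast, hexp y, one_zpow, one_mul,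
        mul_comm b]
    have hsubz : Subgroup.zpowers (c ^ ((j * b : ℤ) : ZMod p).val * y) ≤ Subgroup.zpowers (α c) := by
      rw [Subgroup.zpowers_le, hval, hl]
      rw [hZ] at hz
      obtain ⟨q, rfl⟩ := Subgroup.mem_zpowers_iff.1 hz
      rw [map_zpow, ← zpow_mul]
      exact zpow_mem (Subgroup.mem_zpowers _) _
    refine (Subgroup.eq_of_le_of_card_ge hsubz ?_).symm
    rw [Nat.card_zpowers, Nat.card_zpowers, MulEquiv.orderOf_eq, hcord]
    refine (orderOf_eq_prime (hexp _) fun h1 => hy ?_).ge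
    rw [mul_eq_one_iff_inv_eq.1 h1 |>.symm]
    exact inv_mem (pow_mem hc _)
  -- `u` moves it to all the others
  have hL : ∀ t, L t ∈ O := by
    intro t
    have hup : ∀ n : ℕ, (u ^ n) y = c ^ n * y := by
      intro n
      induction n with
      | zero => simp
      | succ n ih => rw [pow_succ', MulAut.mul_apply, ih, map_mul, map_pow, hufix c hc, huy, pow_succ, mul_assoc]
    obtain ⟨a, ha⟩ := ht₀
    refine ⟨(⟨u, hu⟩ : A) ^ (t - t₀).val * a, ?_⟩
    show ((⟨u, hu⟩ : A) ^ (t - t₀).val * a) • Z = L t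
    rw [mul_smul, show a • Z = L t₀ from ha, hsmul]
    show (Subgroup.zpowers (c ^ t₀.val * y)).map _ = _
    rw [MonoidHom.map_zpowers]
    show Subgroup.zpowers ((u ^ (t - t₀).val : MulAut V) (c ^ t₀.val * y)) = L t
    have hfix : (u ^ (t - t₀).val : MulAut V) c = c := by
      induction (t - t₀).val with
      | zero => rfl
      | succ n ih => rw [pow_succ', MulAut.mul_apply, ih, hufix c hc]
    rw [map_mul, map_pow, hfix, hup, ← mul_assoc, ← pow_add]
    show _ = Subgroup.zpowers (c ^ t.val * y)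
    congr 2
    rw [pow_eq_pow_iff_modEq, hcord, ← ZMod.natCast_eq_natCast_iff, Nat.cast_add, ZMod.natCast_zmod_val,
      ZMod.natCast_zmod_val, ZMod.natCast_zmod_val, add_sub_cancel]
  -- so the orbit has `p + 1` elements
  let e : Option (ZMod p) → O := fun o => match o with
    | none => ⟨Z, MulAction.mem_orbit_self Z⟩
    | some t => ⟨L t, hL t⟩
  have hinj : Function.Injective e := by
    have h1 : ∀ t, L t ≠ Z := fun t h => hy (by
      have h3 : c ^ t.val * y ∈ Z := h ▸ Subgroup.mem_zpowers _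
      have := mul_mem (inv_mem (pow_mem hc t.val)) h3
      rwa [inv_mul_cancel_left] at this)
    intro a b h
    rcases a with _ | t <;> rcases b with _ | t' <;> simp only [e, Subtype.mk.injEq] at h
    · rfl
    · exact absurd h.symm (h1 t')
    · exact absurd h (h1 t)
    · congr 1
      have h3 : c ^ t'.val * y ∈ L t := h ▸ Subgroup.mem_zpowers _
      obtain ⟨k, hk⟩ := Subgroup.mem_zpowers_iff.1 h3
      rw [mul_zpow] at hk
      have h4 : y ^ (k - 1) ∈ Z := by
        have e1 : y ^ (k - 1) = ((c ^ t.val) ^ k)⁻¹ * c ^ t'.val := by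
          rw [zpow_sub, zpow_one, eq_inv_mul_iff_mul_eq, ← mul_assoc, hk, mul_inv_cancel_right]
        rw [e1]
        exact mul_mem (inv_mem (zpow_mem (pow_mem hc _) k)) (pow_mem hc _)
      obtain ⟨j, hj⟩ := hyord _ h4
      rw [show k = 1 + (p : ℤ) * j by linear_combination hj, zpow_add, zpow_add, zpow_one, zpow_one, zpow_mul,
        zpow_mul, zpow_natCast, zpow_natCast, hexp, hexp, one_zpow, mul_one, mul_one, mul_left_inj,
        pow_eq_pow_iff_modEq, hcord] at hk
      rw [← ZMod.natCast_zmod_val t, ← ZMod.natCast_zmod_val t', ZMod.natCast_eq_natCast_iff]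
      exact hk
  have hsurj : Function.Surjective e := by
    rintro ⟨W, a, rfl⟩
    by_cases h : ∀ z ∈ Z, (a : MulAut V) z ∈ Z
    · refine ⟨none, Subtype.ext ?_⟩
      show Z = a • Z
      rw [hsmul]
      refine (Subgroup.eq_of_le_of_card_ge ?_ ?_).symm
      · rintro _ ⟨x, hx, rfl⟩; exact h x hx
      · rw [Subgroup.card_map_of_injective (a : MulAut V).injective]
    · push_neg at h
      obtain ⟨z, hz, hzn⟩ := h
      obtain ⟨k, hk⟩ := hgen ((a : MulAut V) z)
      have hpk : ¬ (p : ℤ) ∣ k := by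
        rintro ⟨j, rfl⟩
        rw [zpow_mul, zpow_natCast, hexp y, one_zpow, inv_one, one_mul] at hk
        exact hzn hk
      obtain ⟨a', b, hab⟩ := (Nat.prime_iff_prime_int.1 hp.out).coprime_iff_not_dvd.2 hpk
      rw [hZ] at hk
      obtain ⟨j, hj⟩ := Subgroup.mem_zpowers_iff.1 hk
      refine ⟨some ((j * b : ℤ) : ZMod p), Subtype.ext ?_⟩
      show L _ = a • Z
      rw [hsmul]
      have hval : c ^ ((j * b : ℤ) : ZMod p).val = c ^ (j * b) := by
        rw [← zpow_natCast, zpow_eq_zpow_iff_modEq, hcord, ← ZMod.intCast_eq_intCast_iff, Int.cast_natCast,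
          ZMod.natCast_zmod_val]
      have hl : c ^ (j * b) * y = ((a : MulAut V) z) ^ b := by
        have e1 : (a : MulAut V) z = c ^ j * y ^ k := by rw [hj, mul_comm, mul_inv_cancel_left]
        rw [e1, mul_zpow, ← zpow_mul, ← zpow_mul]
        congr 1
        conv_lhs => rw [← zpow_one y, ← hab, zpow_add, mul_comm a', zpow_mul, zpow_natCast, hexp y, one_zpow, one_mul,
          mul_comm b]
      refine Subgroup.eq_of_le_of_card_ge ?_ ?_
      · show Subgroup.zpowers _ ≤ _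
        rw [Subgroup.zpowers_le, hval, hl]
        exact zpow_mem (Subgroup.mem_map_of_mem _ hz) b
      · rw [Subgroup.card_map_of_injective (a : MulAut V).injective, hZ, Nat.card_zpowers, hcord, Nat.card_zpowers]
        refine (orderOf_eq_prime (hexp _) fun h1 => hy ?_).ge
        rw [mul_eq_one_iff_inv_eq.1 h1 |>.symm]
        exact inv_mem (pow_mem hc _)
  have hcard : Nat.card O = p + 1 := by
    rw [← Nat.card_eq_of_bijective e ⟨hinj, hsurj⟩, Nat.card_eq_fintype_card, Fintype.card_option, ZMod.card]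
  have h2 : 2 ∣ Nat.card A := by
    have h3 : (MulAction.stabilizer A Z).index = p + 1 := by rw [MulAction.index_stabilizer, Set.ncard, ← hcard]; rfl
    have h4 : 2 ∣ p + 1 := by
      obtain ⟨k, hk⟩ := (hp.out.eq_two_or_odd').resolve_left hp2
      exact ⟨k + 1, by omega⟩
    exact (h3 ▸ h4).trans (Subgroup.index_dvd_card _)
  have : Finite (MulAut V) := Finite.of_injective (fun α : MulAut V => (α : V → V)) DFunLike.coe_injective
  obtain ⟨t, ht⟩ := exists_prime_orderOf_dvd_card' (hp := ⟨Nat.prime_two⟩) 2 h2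
  set T : MulAut V := (t : A).1 with hT
  have htt : ∀ v, T (T v) = v := fun v => by
    have h5 : t * t = 1 := by rw [← pow_two, ← ht, pow_orderOf_eq_one]
    exact congrArg (fun a : A => (a : MulAut V) v) h5
  have hsq : ∀ v : V, v * v ∈ Z → v ∈ Z := by
    intro v hv
    obtain ⟨k, hk⟩ := (hp.out.eq_two_or_odd').resolve_left hp2
    have : v = ((v * v) ^ k)⁻¹ := by
      have h6 := hexp v
      rw [hk, pow_succ, pow_mul, pow_two] at h6
      exact (inv_eq_of_mul_eq_one_right h6).symm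
    rw [this]
    exact inv_mem (pow_mem hv k)
  -- every line in the orbit stabilised by `T` is centralised modulo itself
  have hline : ∀ W ∈ O, (∀ w ∈ W, T w ∈ W) → ∀ v, v⁻¹ * T v ∈ W := by
    rintro W ⟨a, rfl⟩ hW v
    have h1 := hstab ((a⁻¹ * t * a : A) : MulAut V) (a⁻¹ * t * a).2 (fun z hz => by
      have h2 := hW ((a : MulAut V) z) (by
        show (a : MulAut V) z ∈ a • Z
        rw [hsmul]
        exact Subgroup.mem_map_of_mem _ hz)
      obtain ⟨x, hx, hxe⟩ := (show T ((a : MulAut V) z) ∈ Z.map (a : MulAut V).toMonoidHom from hsmul a Z ▸ h2)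
      show (a : MulAut V)⁻¹ (T ((a : MulAut V) z)) ∈ Z
      rw [← hxe]
      show (a : MulAut V)⁻¹ ((a : MulAut V) x) ∈ Z
      rw [MulAut.inv_apply_self]
      exact hx) ((a : MulAut V)⁻¹ v)
    show v⁻¹ * T v ∈ a • Z
    rw [hsmul]
    refine ⟨_, h1, ?_⟩
    show (a : MulAut V) (((a : MulAut V)⁻¹ v)⁻¹ * (a : MulAut V)⁻¹ (T ((a : MulAut V) ((a : MulAut V)⁻¹ v)))) = _
    rw [map_mul, map_inv, MulAut.apply_inv_self, MulAut.apply_inv_self]
  have hmemO : ∀ w : V, w ≠ 1 → Subgroup.zpowers w ∈ O := by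
    intro w hw
    have hwp : orderOf w = p := orderOf_eq_prime (hexp w) hw
    obtain ⟨k, hk⟩ := hgen w
    rw [hZ] at hk
    obtain ⟨j, hj⟩ := Subgroup.mem_zpowers_iff.1 hk
    by_cases hpk : (p : ℤ) ∣ k
    · obtain ⟨i, rfl⟩ := hpk
      have hwZ : w ∈ Z := by
        rw [zpow_mul, zpow_natCast, hexp y, one_zpow, inv_one, one_mul] at hj
        rw [hZ, ← hj]; exact zpow_mem (Subgroup.mem_zpowers c) j
      rw [Subgroup.eq_of_le_of_card_ge (Subgroup.zpowers_le.2 hwZ)
        (by rw [Nat.card_zpowers, hwp, hZ, Nat.card_zpowers, hcord])]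
      exact MulAction.mem_orbit_self Z
    · obtain ⟨a', b, hab⟩ := (Nat.prime_iff_prime_int.1 hp.out).coprime_iff_not_dvd.2 hpk
      have hle : L ((j * b : ℤ) : ZMod p) ≤ Subgroup.zpowers w := by
        show Subgroup.zpowers _ ≤ _
        rw [Subgroup.zpowers_le, ← zpow_natCast]
        have hval : c ^ ((((j * b : ℤ) : ZMod p).val : ℕ) : ℤ) = c ^ (j * b) := by
          rw [zpow_eq_zpow_iff_modEq, hcord, ← ZMod.intCast_eq_intCast_iff, Int.cast_natCast, ZMod.natCast_zmod_val]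
        have hl : c ^ (j * b) * y = w ^ b := by
          have e1 : w = c ^ j * y ^ k := by rw [hj, mul_comm, mul_inv_cancel_left]
          rw [e1, mul_zpow, ← zpow_mul, ← zpow_mul]
          congr 1
          conv_lhs => rw [← zpow_one y, ← hab, zpow_add, mul_comm a', zpow_mul, zpow_natCast, hexp y, one_zpow, one_mul,
            mul_comm b]
        rw [hval, hl]
        exact zpow_mem (Subgroup.mem_zpowers w) b
      rw [← Subgroup.eq_of_le_of_card_ge hle ?_]
      · exact hL _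
      · rw [Nat.card_zpowers, hwp]
        show p ≤ Nat.card (Subgroup.zpowers _)
        rw [Nat.card_zpowers]
        refine (orderOf_eq_prime (hexp _) fun h1 => hy ?_).ge
        rw [mul_eq_one_iff_inv_eq.1 h1 |>.symm]
        exact inv_mem (pow_mem hc _)
  by_cases hneg : ∀ v, T v = v⁻¹
  · have h1 := hline Z (MulAction.mem_orbit_self Z) (fun w hw => by rw [hneg]; exact inv_mem hw) y
    rw [hneg, ← mul_inv] at h1
    exact hy (hsq y (inv_inv (y * y) ▸ inv_mem h1))
  · push_neg at hneg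
    obtain ⟨w, hw⟩ := hneg
    set v := w * T w with hv
    have hv1 : v ≠ 1 := fun h => hw (eq_inv_of_mul_eq_one_right h)
    have hvfix : T v = v := by rw [hv, map_mul, htt, mul_comm]
    have h1 := hline _ (hmemO v hv1) fun x hx => by
      obtain ⟨k, rfl⟩ := Subgroup.mem_zpowers_iff.1 hx
      rw [map_zpow, hvfix]
      exact hx
    have hall : ∀ x, T x = x := by
      intro x
      set d := x⁻¹ * T x with hd
      have hdT : T d = d⁻¹ := by rw [hd, map_mul, map_inv, htt, mul_inv, inv_inv, mul_comm]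
      obtain ⟨k, hk⟩ := Subgroup.mem_zpowers_iff.1 (h1 x)
      have h7 : T d = d := by rw [hd, ← hk, map_zpow, hvfix]
      rw [h7] at hdT
      have h8 : d * d = 1 := mul_eq_one_iff_eq_inv.2 hdT
      obtain ⟨k', hk'⟩ := (hp.out.eq_two_or_odd').resolve_left hp2
      have h9 := hexp d
      rw [hk', pow_succ, pow_mul, pow_two, h8, one_pow, one_mul] at h9
      rw [hd, inv_mul_eq_one] at h9
      exact h9.symm
    have : t = 1 := Subtype.ext (MulEquiv.ext hall)
    rw [this, orderOf_one] at ht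
    exact absurd ht (by norm_num)

end plane

end Cfsg.Agent.FusionMetacyclic
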